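import Cfsg.Agent.H654.Van.F4

/-!
# Characters of `p`-defect zero of `F₄(q)` for `p ∤ q (q² - 1)` (helper139)

* `dz_F4`.
-/

set_option autoImplicit false
set_option linter.unusedSectionVars false

namespace Cfsg.Agent.H139.Van.DzF4

open CoxeterSystem Cfsg Cfsg.Lie Cfsg.Lie.ChevalleyDatum
open Cfsg.Agent.ChevalleyStructure Cfsg.Agent.ChevalleyStructure.Elts Cfsg.Agent.ChevalleyStructure.CoxeterGeom
  Cfsg.Agent.ChevalleyStructure.CoxeterGeomTypes Cfsg.Agent.ChevalleyStructure.NPerm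
open Cfsg.Agent.Tits.Roots Cfsg.Agent.Tits.Core Cfsg.Agent.Nodes.Reps Cfsg.Agent.Nodes.BNOf
  Cfsg.Agent.Nodes.RGDChev Cfsg.Agent.Nodes.Bruhat
open Cfsg.Agent.H35.ExcIdx Cfsg.Agent.H53.HC.ExcRows Cfsg.Agent.H654.Two.F4Row Cfsg.Agent.H654.Two.F4Char
open Cfsg.Agent.H387.VO Cfsg.Agent.H620 Cfsg.Agent.H720.PV Cfsg.Agent.H378.AdjTab Cfsg.Agent.H378.ExcAdj
  Cfsg.Agent.H378.CycTab Cfsg.Agent.H378 Cfsg.Agent.H129.WData Cfsg.Agent.H493.PGTorus Cfsg.Agent.H654.Van.F4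

/-- **`F₄(q)` has characters of `p`-defect zero for all primes `p ∤ q (q² - 1)`.** -/
theorem dz_F4 {F : Type} [Field F] [Fintype F] {p : ℕ} [hpf : Fact p.Prime] (hpq : ¬ p ∣ Fintype.card F)
    (h1 : ¬ p ∣ Fintype.card F - 1) (h2 : ¬ p ∣ Fintype.card F + 1) (hd : p ∣ Nat.card ↥(chevF4.group F)) :
    H665.NoPQ.HasDZ p ↥(chevF4.group F) := by
  have hpp := hpf.out
  have := finite_group (K := F) chevF4
  obtain ⟨r, hch⟩ := CharP.exists F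
  obtain ⟨f, hr, hK⟩ := FiniteField.card F r
  have hrf : Fact r.Prime := ⟨hr⟩
  have hf0 : (f : ℕ) ≠ 0 := f.ne_zero
  have hcard := Cfsg.Agent.S1062.result hK
  have hq2 := Cfsg.Agent.H35.ExcIdx.two_le hr hf0
  have hq1 : 1 ≤ r ^ (f : ℕ) := by omega
  have D := data_F4_2 hr hf0 hK
  have := D.fin
  have hcF : Nat.card F = r ^ (f : ℕ) := by rw [Nat.card_eq_fintype_card, hK]
  rw [hK] at hpq h1 h2
  have h12 : ¬ p ∣ (r ^ (f : ℕ)) ^ 2 - 1 := by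
    intro h
    have e : (r ^ (f : ℕ)) ^ 2 - 1 = (r ^ (f : ℕ) + 1) * (r ^ (f : ℕ) - 1) := by
      have := Nat.sq_sub_sq (r ^ (f : ℕ)) 1
      simpa using this
    rw [e] at h
    rcases hpp.dvd_mul.1 h with h | h
    · exact h2 h
    · exact h1 h
  have hdz2 : od (r ^ (f : ℕ)) p = 3 ∨ od (r ^ (f : ℕ)) p = 6 ∨ od (r ^ (f : ℕ)) p = 12 →
      H665.NoPQ.HasDZ p ↥(chevF4.group F) := by
    intro ho
    obtain ⟨ψ, hψ, -, hψ1⟩ := exists_d2 D.rgd D.gg cartan_eq hq2 D.size (D2 (r ^ (f : ℕ))) (cast_D2 hq1 ℚ)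
    refine hasDZ_of_degree hψ hψ1 ?_
    rw [hcard]
    exact d2_full hq1 hpp hpq ho
  have hdz3 : od (r ^ (f : ℕ)) p = 4 ∨ od (r ^ (f : ℕ)) p = 8 ∨ od (r ^ (f : ℕ)) p = 12 →
      H665.NoPQ.HasDZ p ↥(chevF4.group F) := by
    intro ho
    obtain ⟨ψ, hψ, -, hψ1⟩ := exists_d3 D.rgd D.gg cartan_eq hq2 D.size (D3 (r ^ (f : ℕ))) (cast_D3 hq1 ℚ)
    refine hasDZ_of_degree hψ hψ1 ?_
    rw [hcard]
    exact d3_full hq1 hpp hpq ho
  have hod := od_F4 hpp hd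
  rw [hcF] at hod
  rcases hod with h | h | h | h | h | h | h | h
  · exact absurd h hpq
  · exact absurd (dvd_of_od_dvd hq1 (n := 2) (by rw [h]; exact one_dvd _)) h12
  · exact absurd (dvd_of_od_dvd hq1 (n := 2) (by rw [h])) h12
  · exact hdz2 (Or.inl h)
  · exact hdz3 (Or.inl h)
  · exact hdz2 (Or.inr (Or.inl h))
  · exact hdz3 (Or.inr (Or.inl h))
  · exact hdz2 (Or.inr (Or.inr h))

end Cfsg.Agent.H139.Van.DzF4
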