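import Cfsg.Agent.H139.Van.GL2Three
import Cfsg.Agent.H115.HC.GThree
import Cfsg.Agent.H620.PNorm
import Cfsg.Agent.ChevStructure.FieldMap

/-!
# `G₂(3)`: a 2-element at which an irreducible character vanishes with its conjugates under automorphisms (helper139)

For S4555. `χ` is Harish-Chandra induced from the faithful cuspidal character `ψ` of degree two of the Levi subgroup
`GL₂(3)`; the elements `x` of order eight of `GL₂(3)` are conjugate to `x⁻¹` in `G₂(3)`, and the values of `ψ` at them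
are purely imaginary. So `χ (α x)` is real and imaginary.
-/

set_option autoImplicit false

open scoped ComplexConjugate
open Cfsg

namespace Cfsg.Agent.H139.Van.G2Three

open Cfsg.Agent.H115.HC.GThree (SL3 mk up mo eq_mk card_LJ_ge)

abbrev GL3 := Matrix.GeneralLinearGroup (Fin 2) (ZMod 3)

theorem sl_det (g : SL3) : g.1 0 0 * g.1 1 1 - g.1 0 1 * g.1 1 0 = 1 := by
  have := g.2
  rwa [Matrix.det_fin_two] at this

/-- conjugation by `diag(1, -1)` -/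
def dl (g : SL3) : SL3 := mk (g.1 0 0) (-g.1 0 1) (-g.1 1 0) (g.1 1 1) (by rw [neg_mul_neg]; exact sl_det g)

theorem dl_one : dl 1 = 1 := by
  apply Subtype.ext
  change !![(1 : Matrix (Fin 2) (Fin 2) (ZMod 3)) 0 0, -(1 : Matrix (Fin 2) (Fin 2) (ZMod 3)) 0 1;
    -(1 : Matrix (Fin 2) (Fin 2) (ZMod 3)) 1 0, (1 : Matrix (Fin 2) (Fin 2) (ZMod 3)) 1 1] = 1
  ext i j
  fin_cases i <;> fin_cases j <;> simp

theorem dl_mul (g h : SL3) : dl (g * h) = dl g * dl h := by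
  apply Subtype.ext
  change !![(g.1 * h.1) 0 0, -(g.1 * h.1) 0 1; -(g.1 * h.1) 1 0, (g.1 * h.1) 1 1] =
    !![g.1 0 0, -g.1 0 1; -g.1 1 0, g.1 1 1] * !![h.1 0 0, -h.1 0 1; -h.1 1 0, h.1 1 1]
  rw [Matrix.mul_fin_two]
  simp only [Matrix.mul_apply, Fin.sum_univ_two]
  ext i j
  fin_cases i <;> fin_cases j <;> simp <;> ring

theorem det_sq (A : GL3) : A.1.det * A.1.det = 1 := by
  have h : ∀ x : ZMod 3, x ≠ 0 → x * x = 1 := by decide
  exact h _ (Matrix.GeneralLinearGroup.det_ne_zero A)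

theorem det_or (A : GL3) : A.1.det = 1 ∨ A.1.det = -1 := by
  have h : ∀ x : ZMod 3, x ≠ 0 → x = 1 ∨ x = -1 := by decide
  exact h _ (Matrix.GeneralLinearGroup.det_ne_zero A)

/-- `diag(1, det A) A` -/
def pr (A : GL3) : SL3 := mk (A.1 0 0) (A.1 0 1) (A.1.det * A.1 1 0) (A.1.det * A.1 1 1) (by
  have h1 := det_sq A
  have h2 := Matrix.det_fin_two A.1
  linear_combination h1 - A.1.det * h2)

theorem det_mul' (A B : GL3) : (A * B).1.det = A.1.det * B.1.det := Matrix.det_mul _ _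

theorem pr_mul_one {A B : GL3} (hB : B.1.det = 1) : pr (A * B) = pr A * pr B := by
  apply Subtype.ext
  change !![(A.1 * B.1) 0 0, (A.1 * B.1) 0 1; (A * B).1.det * (A.1 * B.1) 1 0, (A * B).1.det * (A.1 * B.1) 1 1] =
    !![A.1 0 0, A.1 0 1; A.1.det * A.1 1 0, A.1.det * A.1 1 1] *
      !![B.1 0 0, B.1 0 1; B.1.det * B.1 1 0, B.1.det * B.1 1 1]
  rw [Matrix.mul_fin_two, det_mul', hB]
  simp only [Matrix.mul_apply, Fin.sum_univ_two]
  ext i j
  fin_cases i <;> fin_cases j <;> simp <;> ring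

theorem pr_mul_neg {A B : GL3} (hB : B.1.det = -1) : pr (A * B) = dl (pr A) * pr B := by
  apply Subtype.ext
  change !![(A.1 * B.1) 0 0, (A.1 * B.1) 0 1; (A * B).1.det * (A.1 * B.1) 1 0, (A * B).1.det * (A.1 * B.1) 1 1] =
    !![A.1 0 0, -A.1 0 1; -(A.1.det * A.1 1 0), A.1.det * A.1 1 1] *
      !![B.1 0 0, B.1 0 1; B.1.det * B.1 1 0, B.1.det * B.1 1 1]
  rw [Matrix.mul_fin_two, det_mul', hB]
  simp only [Matrix.mul_apply, Fin.sum_univ_two]
  ext i j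
  fin_cases i <;> fin_cases j <;> simp <;> ring

theorem pr_one : pr 1 = 1 := by
  apply Subtype.ext
  change !![(1 : Matrix (Fin 2) (Fin 2) (ZMod 3)) 0 0, (1 : Matrix (Fin 2) (Fin 2) (ZMod 3)) 0 1;
    (1 : Matrix (Fin 2) (Fin 2) (ZMod 3)).det * (1 : Matrix (Fin 2) (Fin 2) (ZMod 3)) 1 0,
    (1 : Matrix (Fin 2) (Fin 2) (ZMod 3)).det * (1 : Matrix (Fin 2) (Fin 2) (ZMod 3)) 1 1] = 1
  rw [Matrix.det_one]
  ext i j
  fin_cases i <;> fin_cases j <;> simp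

/-- the matrix `diag(1, d) g` -/
def toG (d : ZMod 3) (hd : d ≠ 0) (g : SL3) : GL3 :=
  Matrix.GeneralLinearGroup.mkOfDetNeZero !![g.1 0 0, g.1 0 1; d * g.1 1 0, d * g.1 1 1] (by
    rw [Matrix.det_fin_two_of]
    have := sl_det g
    rw [show g.1 0 0 * (d * g.1 1 1) - g.1 0 1 * (d * g.1 1 0) = d * (g.1 0 0 * g.1 1 1 - g.1 0 1 * g.1 1 0) by ring,
      this, mul_one]
    exact hd)

theorem det_toG (d : ZMod 3) (hd : d ≠ 0) (g : SL3) : (toG d hd g).1.det = d := by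
  change (!![g.1 0 0, g.1 0 1; d * g.1 1 0, d * g.1 1 1] : Matrix (Fin 2) (Fin 2) (ZMod 3)).det = d
  rw [Matrix.det_fin_two_of]
  have := sl_det g
  rw [show g.1 0 0 * (d * g.1 1 1) - g.1 0 1 * (d * g.1 1 0) = d * (g.1 0 0 * g.1 1 1 - g.1 0 1 * g.1 1 0) by ring,
    this, mul_one]

theorem pr_toG (d : ZMod 3) (hd : d ≠ 0) (g : SL3) : pr (toG d hd g) = g := by
  have h1 : d * d = 1 := by
    revert hd
    revert d
    decide
  apply Subtype.ext
  change !![g.1 0 0, g.1 0 1; (toG d hd g).1.det * (d * g.1 1 0), (toG d hd g).1.det * (d * g.1 1 1)] = g.1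
  rw [det_toG, ← mul_assoc, ← mul_assoc, h1, one_mul, one_mul]
  exact (Matrix.eta_fin_two g.1).symm

section hom

variable {Y : Type*} [Group Y] (φ : SL3 →* Y) {t1 : Y} (ht2 : t1 * t1 = 1)
  (hc1 : ∀ g, t1 * φ g * t1⁻¹ = φ (dl g))

include ht2 hc1 in
theorem mul_t (g : SL3) : φ g * t1 = t1 * φ (dl g) := by
  have h1 : t1⁻¹ = t1 := inv_eq_of_mul_eq_one_left ht2
  rw [← hc1, h1, ← mul_assoc, ← mul_assoc, ht2, one_mul]

/-- the extension to `GL₂(3)` -/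
def Phi : GL3 →* Y where
  toFun A := if A.1.det = 1 then φ (pr A) else t1 * φ (pr A)
  map_one' := by
    rw [if_pos (show (1 : GL3).1.det = 1 from Matrix.det_one), pr_one, map_one]
  map_mul' A B := by
    have hne : (-1 : ZMod 3) ≠ 1 := by decide
    rcases det_or A with hA | hA <;> rcases det_or B with hB | hB
    · rw [if_pos hA, if_pos hB, det_mul', hA, hB, if_pos (mul_one _), pr_mul_one hB, map_mul]
    · rw [if_pos hA, hB, if_neg hne, det_mul', hA, hB, one_mul, if_neg hne, pr_mul_neg hB, map_mul, ← mul_assoc,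
        ← mul_assoc, mul_t φ ht2 hc1]
    · rw [if_pos hB, hA, if_neg hne, det_mul', hA, hB, mul_one, if_neg hne, pr_mul_one hB, map_mul, ← mul_assoc]
    · rw [hA, hB, if_neg hne, if_neg hne, det_mul', hA, hB, neg_mul_neg, one_mul, if_pos rfl, pr_mul_neg hB,
        map_mul]
      have h2 := mul_t φ ht2 hc1 (pr A)
      rw [show t1 * φ (pr A) * (t1 * φ (pr B)) = t1 * (φ (pr A) * t1) * φ (pr B) by group, h2, ← mul_assoc, ht2,
        one_mul]

theorem Phi_pos {A : GL3} (hA : A.1.det = 1) : Phi φ ht2 hc1 A = φ (pr A) := if_pos hA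

theorem Phi_neg {A : GL3} (hA : A.1.det = -1) : Phi φ ht2 hc1 A = t1 * φ (pr A) :=
  if_neg (by rw [hA]; decide)

end hom

theorem upG_det (t : ZMod 3) : (upG t).1.det = 1 := by
  change (!![1, t; 0, 1] : Matrix (Fin 2) (Fin 2) (ZMod 3)).det = 1
  rw [Matrix.det_fin_two_of]
  simp

theorem pr_upG (t : ZMod 3) : pr (upG t) = up t := by
  apply Subtype.ext
  change !![1, t; (upG t).1.det * 0, (upG t).1.det * 1] = !![1, t; 0, 1]
  rw [upG_det]
  simp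

theorem pr_neg (A : GL3) : pr (Matrix.GeneralLinearGroup.scalar (Fin 2) (-1 : (ZMod 3)ˣ) * A) = mo * pr A := by
  have h1 : (Matrix.GeneralLinearGroup.scalar (Fin 2) (-1 : (ZMod 3)ˣ) * A).1 = -A.1 := by
    change (Matrix.scalar (Fin 2) (-1 : ZMod 3)) * A.1 = _
    rw [Matrix.scalar_apply, ← Matrix.smul_one_eq_diagonal, Matrix.smul_mul, one_mul, neg_smul, one_smul]
  have h2 : (Matrix.GeneralLinearGroup.scalar (Fin 2) (-1 : (ZMod 3)ˣ) * A).1.det = A.1.det := by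
    rw [h1, Matrix.det_neg]
    simp
  apply Subtype.ext
  change !![(Matrix.GeneralLinearGroup.scalar (Fin 2) (-1 : (ZMod 3)ˣ) * A).1 0 0,
    (Matrix.GeneralLinearGroup.scalar (Fin 2) (-1 : (ZMod 3)ˣ) * A).1 0 1;
    (Matrix.GeneralLinearGroup.scalar (Fin 2) (-1 : (ZMod 3)ˣ) * A).1.det *
      (Matrix.GeneralLinearGroup.scalar (Fin 2) (-1 : (ZMod 3)ˣ) * A).1 1 0,
    (Matrix.GeneralLinearGroup.scalar (Fin 2) (-1 : (ZMod 3)ˣ) * A).1.det *
      (Matrix.GeneralLinearGroup.scalar (Fin 2) (-1 : (ZMod 3)ˣ) * A).1 1 1] =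
    !![-1, 0; 0, -1] * !![A.1 0 0, A.1 0 1; A.1.det * A.1 1 0, A.1.det * A.1 1 1]
  rw [h2, h1, Matrix.mul_fin_two]
  ext i j
  fin_cases i <;> fin_cases j <;> simp

theorem det_scal (A : GL3) : (Matrix.GeneralLinearGroup.scalar (Fin 2) (-1 : (ZMod 3)ˣ) * A).1.det = A.1.det := by
  have h1 : (Matrix.GeneralLinearGroup.scalar (Fin 2) (-1 : (ZMod 3)ˣ) * A).1 = -A.1 := by
    change (Matrix.scalar (Fin 2) (-1 : ZMod 3)) * A.1 = _
    rw [Matrix.scalar_apply, ← Matrix.smul_one_eq_diagonal, Matrix.smul_mul, one_mul, neg_smul, one_smul]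
  rw [h1, Matrix.det_neg]
  simp

theorem card_GL3 : Nat.card GL3 = 48 := by
  rw [Matrix.card_GL_field, Fin.prod_univ_two, ZMod.card]
  norm_num

open CoxeterSystem Cfsg.Agent.ChevalleyStructure.CoxeterGeom Cfsg.Agent.Tits.Roots Cfsg.Agent.Tits.Core
  Cfsg.Agent.Nodes.Reps Cfsg.Agent.Nodes.BNOf Cfsg.Agent.Nodes.Bruhat Cfsg.Agent.Nodes.LeviDec Cfsg.Agent.Characters
  Cfsg.Agent.Characters.Core Cfsg.Agent.H53.HC Cfsg.Agent.Nodes.StabComb Cfsg.Agent.Nodes.OppDec Cfsg.Agent.H115.HC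

section gen

variable {I W Y : Type*} [Fintype I] [DecidableEq I] [Group W] [Group Y] {M : CoxeterMatrix I}
  {cs : CoxeterSystem M W} {A : I → I → ℤ} {h : IsCartan M A} {p : ℕ} {T : Subgroup Y} {n : I → Y}
  {X : (I → ℤ) → Subgroup Y}

variable (R : RGD cs h p T n X)

include R

/-- **Harish-Chandra induction from a rank one Levi subgroup**, explicitly. -/
theorem isIrr_indFun_pi [Finite W] [Fintype Y] (hG : GG cs h T X = ⊤) (i : I)
    {ψ : ↥(LJ cs h T X {i}) → ℂ} (hψ : IsIrrCharacter _ ψ)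
    (hc : ∀ [Fintype ((X (sr i)).subgroupOf (LJ cs h T X {i}))],
        ∑ u : (X (sr i)).subgroupOf (LJ cs h T X {i}), ψ u = 0)
    (hs : ∀ w g, Rp cs R.nsys w g → w ∉ WJ cs {i} → rep cs h w (sr i) = sr i →
      ∃ (L : Subgroup Y) (hL : L ≤ LJ cs h T X {i}) (hL' : ∀ l ∈ L, g⁻¹ * l * g ∈ LJ cs h T X {i}),
        ∀ [Fintype L], ∑ l : L, ψ ⟨l, hL l.2⟩ * conj (ψ ⟨g⁻¹ * l * g, hL' l l.2⟩) = 0)
    {π : ↥(PJ cs h T X {i}) →* ↥(LJ cs h T X {i})}
    (h1 : ∀ (l : Y) (hl : l ∈ LJ cs h T X {i}), π ⟨l, LJ_le_PJ hl⟩ = ⟨l, hl⟩)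
    (h2 : ∀ (v : Y) (hv : v ∈ VJ cs h X {i}), π ⟨v, VJ_le_PJ hv⟩ = 1) :
    IsIrrCharacter Y (indFun (PJ cs h T X {i}) (ψ ∘ π)) := by
  classical
  have hsur : Function.Surjective π := fun l => ⟨⟨(l : Y), LJ_le_PJ l.2⟩, h1 l l.2⟩
  have hψL : ∀ (l : Y) (hl : l ∈ LJ cs h T X {i}), (ψ ∘ π) ⟨l, LJ_le_PJ hl⟩ = ψ ⟨l, hl⟩ := fun l hl => by
    rw [Function.comp_apply, h1]
  refine isIrr_indFun_rgd R hG {i} (isIrr_comp π hsur hψ) (fun v hv => ?_) ?_ ?_
  · rw [Function.comp_apply, h2 v hv, Function.comp_apply, map_one]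
  · intro k hk hf
    obtain rfl : k = i := hk
    have hf' : Fintype ((X (sr k)).subgroupOf (LJ cs h T X {k})) := Fintype.ofFinite _
    rw [← hc]
    refine Fintype.sum_equiv ((MulEquiv.subgroupCongr (rad_single k)).trans
      (Subgroup.subgroupOfEquivOfLe (X_le_LJ_single (T := T) k)).symm).toEquiv _ _ fun u => ?_
    rw [← hψL]
    rfl
  · intro w g hg hw hp
    have hwi : rep cs h w (sr i) = sr i := by
      obtain ⟨k, hk, e⟩ := hp.2 i (Set.mem_singleton i)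
      rw [e, Set.mem_singleton_iff.1 hk]
    obtain ⟨L, hL, hL', hsum⟩ := hs w g hg hw hwi
    refine ⟨L, le_trans hL LJ_le_PJ, fun l hl => LJ_le_PJ (hL' l hl), ?_⟩
    intro hf
    rw [← hsum]
    refine Finset.sum_congr rfl fun l _ => ?_
    rw [hψL _ (hL l.2), hψL _ (hL' l l.2)]

/-- the elements of order 8 of the parabolic subgroup, `p` odd -/
theorem orderOf_pi [Finite W] [Finite Y] [hp : Fact p.Prime] (hp2 : p ≠ 2) (J : Set I)
    {π : ↥(PJ cs h T X J) →* ↥(LJ cs h T X J)}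
    (h1 : ∀ (l : Y) (hl : l ∈ LJ cs h T X J), π ⟨l, LJ_le_PJ hl⟩ = ⟨l, hl⟩)
    (h2 : ∀ (v : Y) (hv : v ∈ VJ cs h X J), π ⟨v, VJ_le_PJ hv⟩ = 1) {y : ↥(PJ cs h T X J)} (hy : orderOf y = 8) :
    orderOf (π y) = 8 := by
  have h8 : π y ^ 2 ^ 3 = 1 := by
    rw [← map_pow, show 2 ^ 3 = 8 from rfl, ← hy, pow_orderOf_eq_one, map_one]
  refine orderOf_eq_prime_pow (p := 2) (n := 2) ?_ h8
  intro h4
  have hy2 : orderOf (y ^ 4) = 2 := by
    rw [orderOf_pow, hy]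
    rfl
  have hV : ((y ^ 4 : ↥(PJ cs h T X J)) : Y) ∈ VJ cs h X J := by
    obtain ⟨l, hl, v, hv, e⟩ := (mem_PJ R).1 (y ^ 4).2
    have e1 : y ^ 4 = ⟨l, LJ_le_PJ hl⟩ * ⟨v, VJ_le_PJ hv⟩ := Subtype.ext e
    have e2 : π (y ^ 4) = 1 := by
      rw [map_pow]
      exact h4
    rw [e1, map_mul, h1 l hl, h2 v hv, mul_one] at e2
    have e3 : l = 1 := congrArg Subtype.val e2
    rw [e, e3, one_mul]
    exact hv
  have hU : IsPGroup p (RGD.Sup X (RGD.Pos cs h)) := R.isPGroup_of_pos fun _ hx => hx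
  obtain ⟨k, hk⟩ := (IsPGroup.iff_orderOf.1 hU) ⟨_, VJ_le_U J hV⟩
  rw [Subgroup.orderOf_mk, Subgroup.orderOf_coe, hy2] at hk
  have h3 : 2 ∣ p := Nat.prime_two.dvd_of_dvd_pow (show 2 ∣ p ^ k by rw [← hk])
  exact hp2 ((Nat.prime_dvd_prime_iff_eq Nat.prime_two hp.out).1 h3).symm

end gen

section abs

variable {W Y : Type*} [Group W] [Group Y] {M : CoxeterMatrix (Fin 2)}
  {cs : CoxeterSystem M W} {A : Fin 2 → Fin 2 → ℤ} {h : IsCartan M A} {p : ℕ} {T : Subgroup Y} {n : Fin 2 → Y}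
  {X : (Fin 2 → ℤ) → Subgroup Y} (R : RGD cs h p T n X)

include R

/-- The case `q = 3`, abstract form. -/
theorem vpow_abs [Finite W] [Finite Y] [hp : Fact p.Prime] (hp2 : p ≠ 2) (hG : GG cs h T X = ⊤)
    (hA : A 0 1 * A 1 0 = 3) (hX : Nat.card (X (sr 0)) = 3) (hT : Nat.card T = 4)
    (φ : SL3 →* Y) (hφ : ∀ t, φ (up t) ∈ X (sr 0)) (hφL : ∀ g, φ g ∈ LJ cs h T X {0})
    {t1 : Y} (ht1 : t1 ∈ T) (ht2 : t1 * t1 = 1) (hc0 : ∀ g, ∃ g', φ g' = φ g ∧ t1 * φ g * t1⁻¹ = φ (dl g'))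
    (hsurj : ∀ l ∈ LJ cs h T X {0}, (∃ g, l = φ g) ∨ ∃ g, l = t1 * φ g)
    {g1 : Y} (hg1 : Rp cs R.nsys (vv cs) g1) (hg1c : ∀ g, g1⁻¹ * φ g * g1 = φ g)
    (hg1t : g1⁻¹ * t1 * g1 = t1 * φ mo) :
    H620.PNorm.VPow 2 Y := by
  classical
  have := Fintype.ofFinite Y
  have hK : Fintype.card (ZMod 3) = 3 := rfl
  -- injectivity
  have hinj : Function.Injective φ := by
    let E : Bool × SL3 → ↥(LJ cs h T X {0}) := fun x =>
      if x.1 then ⟨t1, T_le_LJ ht1⟩ * ⟨φ x.2, hφL _⟩ else ⟨φ x.2, hφL _⟩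
    have hEs : Function.Surjective E := by
      rintro ⟨l, hl⟩
      rcases hsurj l hl with ⟨x, rfl⟩ | ⟨x, rfl⟩
      · exact ⟨(false, x), rfl⟩
      · exact ⟨(true, x), rfl⟩
    have hc48 : Nat.card (Bool × SL3) = 48 := by
      rw [Nat.card_prod, H115.HC.GThree.card_sl, Nat.card_eq_fintype_card, Fintype.card_bool]
    have hEb : Function.Bijective E := by
      refine Function.Surjective.bijective_of_nat_card_le hEs ?_
      rw [hc48]
      exact card_LJ_ge R hX hT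
    intro a b hab
    have h1 : E (false, a) = E (false, b) := Subtype.ext hab
    exact congrArg Prod.snd (hEb.1 h1)
  have hc1 : ∀ g, t1 * φ g * t1⁻¹ = φ (dl g) := fun g => by
    obtain ⟨g', h1, h2⟩ := hc0 g
    rw [h2, hinj h1]
  let Φ : GL3 →* Y := Phi φ ht2 hc1
  have hΦ1 : ∀ g, Φ (toG 1 one_ne_zero g) = φ g := fun g => by
    change Phi φ ht2 hc1 _ = _
    rw [Phi_pos φ ht2 hc1 (det_toG _ _ _), pr_toG]
  have hne : (-1 : ZMod 3) ≠ 0 := by decide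
  have hΦ2 : ∀ g, Φ (toG (-1) hne g) = t1 * φ g := fun g => by
    change Phi φ ht2 hc1 _ = _
    rw [Phi_neg φ ht2 hc1 (det_toG _ _ _), pr_toG]
  have hΦL : ∀ A, Φ A ∈ LJ cs h T X {0} := by
    intro A
    rcases det_or A with h1 | h1
    · rw [show Φ A = φ (pr A) from Phi_pos φ ht2 hc1 h1]
      exact hφL _
    · rw [show Φ A = t1 * φ (pr A) from Phi_neg φ ht2 hc1 h1]
      exact mul_mem (T_le_LJ ht1) (hφL _)
  let ΦL : GL3 →* ↥(LJ cs h T X {0}) := Φ.codRestrict _ hΦL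
  have hΦs : Function.Surjective ΦL := by
    rintro ⟨l, hl⟩
    rcases hsurj l hl with ⟨x, rfl⟩ | ⟨x, rfl⟩
    · exact ⟨_, Subtype.ext (hΦ1 x)⟩
    · exact ⟨_, Subtype.ext (hΦ2 x)⟩
  have hΦb : Function.Bijective ΦL := by
    refine Function.Surjective.bijective_of_nat_card_le hΦs ?_
    rw [card_GL3]
    exact card_LJ_ge R hX hT
  let e : GL3 ≃* ↥(LJ cs h T X {0}) := MulEquiv.ofBijective ΦL hΦb
  obtain ⟨ψ₀, hψ₀, hup, ho8, hz⟩ := exists_psi (K := ZMod 3) hK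
  obtain ⟨A₀, hA₀⟩ := exists_order (K := ZMod 3) hK
  let ψ : ↥(LJ cs h T X {0}) → ℂ := ψ₀ ∘ e.symm
  have hψe : ∀ A, ψ (e A) = ψ₀ A := fun A => by
    change ψ₀ (e.symm (e A)) = ψ₀ A
    rw [e.symm_apply_apply]
  have hψ : IsIrrCharacter _ ψ := isIrr_comp e.symm.toMonoidHom e.symm.surjective hψ₀
  have hcl : ∀ x y : ↥(LJ cs h T X {0}), ψ (y * x * y⁻¹) = ψ x := fun x y => isIrr_isClassFunction hψ x y
  have heup : ∀ t, ((e (upG t) : ↥(LJ cs h T X {0})) : Y) = φ (up t) := fun t => by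
    change Phi φ ht2 hc1 (upG t) = _
    rw [Phi_pos φ ht2 hc1 (upG_det t), pr_upG]
  -- the action of the reflection
  have hg1A : ∀ A : GL3, A.1.det = 1 → g1⁻¹ * ((e A : ↥(LJ cs h T X {0})) : Y) * g1 = e A := by
    intro A hA1
    change g1⁻¹ * Phi φ ht2 hc1 A * g1 = Phi φ ht2 hc1 A
    rw [Phi_pos φ ht2 hc1 hA1]
    exact hg1c _
  have hg1B : ∀ A : GL3, A.1.det = -1 → g1⁻¹ * ((e A : ↥(LJ cs h T X {0})) : Y) * g1 =
      e (Matrix.GeneralLinearGroup.scalar (Fin 2) (-1 : (ZMod 3)ˣ) * A) := by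
    intro A hA1
    change g1⁻¹ * Phi φ ht2 hc1 A * g1 = Phi φ ht2 hc1 (Matrix.GeneralLinearGroup.scalar (Fin 2) (-1 : (ZMod 3)ˣ) * A)
    rw [Phi_neg φ ht2 hc1 hA1, Phi_neg φ ht2 hc1 (by rw [det_scal, hA1]), pr_neg, map_mul, ← mul_assoc t1, ← hg1t]
    nth_rw 2 [← hg1c (pr A)]
    group
  have hψc : ∀ [Fintype ((X (sr 0)).subgroupOf (LJ cs h T X {0}))],
        ∑ u : (X (sr 0)).subgroupOf (LJ cs h T X {0}), ψ u = 0 := by
    intro _
    let E : ZMod 3 → ↥((X (sr 0)).subgroupOf (LJ cs h T X {0})) := fun t => ⟨e (upG t), by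
      rw [Subgroup.mem_subgroupOf, heup]
      exact hφ t⟩
    have hEinj : Function.Injective E := by
      intro s t hst
      have h2 : upG s = upG t := e.injective (congrArg Subtype.val hst)
      have h3 : (upG s).1 0 1 = (upG t).1 0 1 := by rw [h2]
      exact h3
    have hEb : Function.Bijective E := by
      rw [Nat.bijective_iff_injective_and_card]
      refine ⟨hEinj, ?_⟩
      rw [Nat.card_congr (Subgroup.subgroupOfEquivOfLe (X_le_LJ_single (0 : Fin 2))).toEquiv, hX,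
        Nat.card_eq_fintype_card, ZMod.card]
    rw [← hup]
    refine (Fintype.sum_bijective E hEb _ _ fun t => ?_).symm
    exact (hψe _).symm
  have hdet8 : A₀.1.det = -1 := (of_order hK hA₀).1
  obtain ⟨π, hπ1, hπ2⟩ := exists_projL R {0}
  have hirr := isIrr_indFun_pi R hG 0 hψ hψc (by
    intro w g hg hw hwi
    have hwv := eq_vv hA hw hwi
    subst hwv
    have ht := hg1.unique hg
    set t := g1⁻¹ * g with ht0
    have e0 : g = g1 * t := by rw [ht0]; group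
    have key : ∀ l : ↥(LJ cs h T X {0}), ∃ l' : ↥(LJ cs h T X {0}), (l' : Y) = g1⁻¹ * (l : Y) * g1 := by
      intro l
      obtain ⟨A, rfl⟩ := e.surjective l
      rcases det_or A with h1 | h1
      · exact ⟨_, (hg1A A h1).symm⟩
      · exact ⟨_, (hg1B A h1).symm⟩
    have hL' : ∀ l ∈ LJ cs h T X {0}, g⁻¹ * l * g ∈ LJ cs h T X {0} := by
      intro l hl
      obtain ⟨l', h1⟩ := key ⟨l, hl⟩
      have h2 : g⁻¹ * l * g = t⁻¹ * (l' : Y) * t := by
        rw [h1, e0]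
        group
      rw [h2]
      exact mul_mem (mul_mem (inv_mem (T_le_LJ ht)) l'.2) (T_le_LJ ht)
    refine ⟨LJ cs h T X {0}, le_refl _, hL', ?_⟩
    intro hfL
    let c : ↥(LJ cs h T X {0}) →* ↥(LJ cs h T X {0}) :=
      { toFun := fun l => ⟨g⁻¹ * l * g, hL' l l.2⟩
        map_one' := Subtype.ext (by simp)
        map_mul' := fun a b => Subtype.ext (by
          change g⁻¹ * (a * b) * g = (g⁻¹ * a * g) * (g⁻¹ * b * g)
          group) }
    have hcinj : Function.Injective c := by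
      intro a b hab
      have h1 : g⁻¹ * (a : Y) * g = g⁻¹ * (b : Y) * g := congrArg Subtype.val hab
      exact Subtype.ext (mul_left_cancel (mul_right_cancel h1))
    have hcs : Function.Surjective c := Finite.surjective_of_injective hcinj
    have hψc' := isIrr_comp c hcs hψ
    change ∑ l : ↥(LJ cs h T X {0}), ψ l * conj ((ψ ∘ c) l) = 0
    have hneq : ψ ≠ ψ ∘ c := by
      intro heq
      have h1 : ψ (e A₀) = ψ (c (e A₀)) := congrFun heq _
      have h2 : c (e A₀) = (⟨t, T_le_LJ ht⟩ : ↥(LJ cs h T X {0}))⁻¹ *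
          e (Matrix.GeneralLinearGroup.scalar (Fin 2) (-1 : (ZMod 3)ˣ) * A₀) *
            ((⟨t, T_le_LJ ht⟩ : ↥(LJ cs h T X {0}))⁻¹)⁻¹ := by
        apply Subtype.ext
        change g⁻¹ * ((e A₀ : ↥(LJ cs h T X {0})) : Y) * g = t⁻¹ *
          ((e (Matrix.GeneralLinearGroup.scalar (Fin 2) (-1 : (ZMod 3)ˣ) * A₀) : ↥(LJ cs h T X {0})) : Y) * t⁻¹⁻¹
        rw [← hg1B A₀ hdet8, e0]
        group
      rw [h2, hcl, hψe, hψe, hz] at h1
      exact (ho8 A₀ hA₀).2 (self_eq_neg.1 h1)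
    have h1 := classInner_irr_ne hψ hψc' hneq
    rw [classInner_def, mul_eq_zero] at h1
    rcases h1 with h1 | h1
    · exfalso
      rw [inv_eq_zero, Nat.cast_eq_zero] at h1
      exact Nat.card_pos.ne' h1
    · exact h1) hπ1 hπ2
  -- the values at the elements of order 8
  have himag : ∀ y : Y, orderOf y = 8 → conj (indFun (PJ cs h T X {0}) (ψ ∘ π) y) =
      -indFun (PJ cs h T X {0}) (ψ ∘ π) y := by
    intro y hy
    unfold indFun
    rw [map_mul, map_inv₀, Complex.conj_natCast, map_sum, ← mul_neg, ← Finset.sum_neg_distrib]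
    congr 1
    refine Finset.sum_congr rfl fun x _ => ?_
    by_cases hx : x⁻¹ * y * x ∈ PJ cs h T X {0}
    · rw [show x⁻¹ * y * x = ((⟨x⁻¹ * y * x, hx⟩ : ↥(PJ cs h T X {0})) : Y) from rfl,
        extendByZero_of_mem _ _ (Subtype.coe_prop _), Function.comp_apply]
      have h1 : orderOf (⟨x⁻¹ * y * x, hx⟩ : ↥(PJ cs h T X {0})) = 8 := by
        rw [Subgroup.orderOf_mk, ← hy]
        have h2 : x⁻¹ * y * x = MulAut.conj x⁻¹ y := by rw [MulAut.conj_apply, inv_inv]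
        rw [h2, MulEquiv.orderOf_eq]
      have h2 := orderOf_pi R hp2 {0} hπ1 hπ2 h1
      obtain ⟨B, hB⟩ := e.surjective (π ⟨x⁻¹ * y * x, hx⟩)
      rw [← hB, hψe]
      rw [← hB, MulEquiv.orderOf_eq] at h2
      exact (ho8 B h2).1
    · have h1 : extendByZero (PJ cs h T X {0}) (ψ ∘ π) (x⁻¹ * y * x) = 0 := by
        unfold extendByZero
        apply Function.extend_apply'
        rintro ⟨z, hz⟩
        exact hx (hz ▸ z.2)
      rw [h1, map_zero, neg_zero]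
  refine ⟨((e A₀ : ↥(LJ cs h T X {0})) : Y), ⟨3, ?_⟩, ⟨_, hirr⟩, fun α => ?_⟩
  · rw [Subgroup.orderOf_coe, MulEquiv.orderOf_eq, hA₀]
    norm_num
  · have ho : orderOf (α ((e A₀ : ↥(LJ cs h T X {0})) : Y)) = 8 := by
      rw [MulEquiv.orderOf_eq, Subgroup.orderOf_coe, MulEquiv.orderOf_eq, hA₀]
    have h1 := himag _ ho
    -- `x ~ x⁻¹`
    have hconj : ∃ g : Y, g * ((e A₀ : ↥(LJ cs h T X {0})) : Y) * g⁻¹ = ((e A₀ : ↥(LJ cs h T X {0})) : Y)⁻¹ := by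
      obtain ⟨B, hB⟩ := conj_cube hK hA₀
      have h3 : (A₀ ^ 3 : GL3).1.det = -1 := by
        rw [pow_succ, pow_two, det_mul', det_mul', hdet8]
        norm_num
      have h4 := hg1B (A₀ ^ 3) h3
      have h5 : Matrix.GeneralLinearGroup.scalar (Fin 2) (-1 : (ZMod 3)ˣ) * A₀ ^ 3 = A₀⁻¹ := by
        rw [← pow_four hK hA₀, ← pow_add, eq_inv_iff_mul_eq_one, ← pow_succ]
        rw [show 4 + 3 + 1 = orderOf A₀ by rw [hA₀], pow_orderOf_eq_one]
      rw [h5, ← hB, map_mul, map_mul, map_inv, map_inv, Subgroup.coe_mul, Subgroup.coe_mul, Subgroup.coe_inv,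
        Subgroup.coe_inv] at h4
      refine ⟨g1⁻¹ * ((e B : ↥(LJ cs h T X {0})) : Y), ?_⟩
      rw [← h4]
      group
    obtain ⟨g, hg⟩ := hconj
    have h2 : indFun (PJ cs h T X {0}) (ψ ∘ π) (α ((e A₀ : ↥(LJ cs h T X {0})) : Y))⁻¹ =
        indFun (PJ cs h T X {0}) (ψ ∘ π) (α ((e A₀ : ↥(LJ cs h T X {0})) : Y)) := by
      rw [← map_inv, ← hg, map_mul, map_mul, map_inv]
      exact isIrr_isClassFunction hirr _ _
    have h3 : indFun (PJ cs h T X {0}) (ψ ∘ π) (α ((e A₀ : ↥(LJ cs h T X {0})) : Y))⁻¹ =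
        conj (indFun (PJ cs h T X {0}) (ψ ∘ π) (α ((e A₀ : ↥(LJ cs h T X {0})) : Y))) :=
      isCharacter_apply_inv (isIrr_isCharacter hirr) _
    rw [h1, h2] at h3
    exact self_eq_neg.1 h3

end abs

section concrete

open Cfsg.Lie Cfsg.Agent.ChevalleyStructure Cfsg.Agent.ChevalleyStructure.Elts
  Cfsg.Agent.ChevalleyStructure.RootVec Cfsg.Agent.ChevalleyStructure.RootVecTab
  Cfsg.Agent.ChevalleyStructure.NPerm Cfsg.Agent.ChevalleyStructure.CoxeterGeomTypes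
open Cfsg.Agent.Nodes.RGDChev Cfsg.Agent.H35.ExcIdx Cfsg.Agent.H115.HC.GTwo
open Cfsg.Agent.H115.HC.GThree

universe u

local instance fact_three : Fact (Nat.Prime 3) := ⟨Nat.prime_three⟩

/-- the Levi subgroup `GL₂(3)` of `G₂(3)` -/
theorem vpow_zmod : H620.PNorm.VPow 2 ↥(chevG2.group (ZMod 3)) := by
  classical
  have hfin := finite_W hpG2 CoxeterMatrix.G₂.toCoxeterSystem
  have R := rgd (K := ZMod 3) hpG2 CoxeterMatrix.G₂.toCoxeterSystem 3
  have hne : (-1 : ZMod 3) ≠ 0 := neg_ne_zero.2 one_ne_zero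
  obtain ⟨hx9, hx2, hx7⟩ := vecs
  obtain ⟨hx4, hx6, hx1⟩ := vecs'
  obtain ⟨k1, k2⟩ := GTwo.cart
  obtain ⟨d1, d2, d3, d4⟩ := cart2
  obtain ⟨g1, g2, g3, g4, g5, g6, g7⟩ := cart3
  obtain ⟨t0, t1, t2, t3, t4, t5, t6, t7, t8, t9, t10⟩ := tab
  obtain ⟨φ, f1, f2, f3⟩ := exists_phi (ZMod 3)
  have hA : cartanOf chevG2 2 0 1 * cartanOf chevG2 2 1 0 = 3 := by rw [k1, k2]; norm_num
  have hmo : φ mo = hh (ZMod 3) 0 (-1) := by
    refine hh_zero_eq f1 f2 hne ?_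
    change !![-1, 0; 0, -1] = !![-1, 0; 0, (-1)⁻¹]
    rw [inv_neg, inv_one]
  have hup : ∀ t, φ (up t) = xx (ZMod 3) 7 t := fun t => f1 _ t rfl
  have hX7 : ∀ t, xx (ZMod 3) 7 t ∈ XX chevG2 2 (ZMod 3) (sr 0) := fun t => (mem_XX g5 hx7).2 ⟨t, rfl⟩
  have hX4 : ∀ t, xx (ZMod 3) 4 t ∈ XX chevG2 2 (ZMod 3) (-sr 0) := fun t => (mem_XX t9 hx4).2 ⟨t, rfl⟩
  have ht17 : ∀ t, hh (ZMod 3) 1 (-1) * xx (ZMod 3) 7 t * (hh (ZMod 3) 1 (-1))⁻¹ = xx (ZMod 3) 7 (-t) := by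
    intro t
    rw [mul_inv_eq_iff_eq_mul]
    have h1 := hh_xG 1 g5 hne t
    change hh (ZMod 3) 1 (-1) * xx (ZMod 3) 7 t = xx (ZMod 3) 7 ((-1) ^ (chevG2.cartan 1 7) * t) * _ at h1
    rw [h1, t5]
    congr 2
    rw [zpow_neg, zpow_one, inv_neg, inv_one, neg_one_mul]
  have ht14 : ∀ t, hh (ZMod 3) 1 (-1) * xx (ZMod 3) 4 t * (hh (ZMod 3) 1 (-1))⁻¹ = xx (ZMod 3) 4 (-t) := by
    intro t
    rw [mul_inv_eq_iff_eq_mul]
    have h1 := hh_xG 1 t9 hne t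
    change hh (ZMod 3) 1 (-1) * xx (ZMod 3) 4 t = xx (ZMod 3) 4 ((-1) ^ (chevG2.cartan 1 4) * t) * _ at h1
    rw [h1, t6]
    congr 2
    rw [zpow_one, neg_one_mul]
  have ht2 : hh (ZMod 3) 1 (-1) * hh (ZMod 3) 1 (-1) = 1 := by
    rw [hh_mul 1 hne hne, neg_mul_neg, one_mul, hh_one]
  have htinv : (hh (ZMod 3) 1 (-1))⁻¹ = hh (ZMod 3) 1 (-1) := inv_eq_of_mul_eq_one_left ht2
  have hr7 : ∀ t, xx (ZMod 3) 7 t ∈ φ.range := fun t => ⟨up t, hup t⟩
  have hr4 : ∀ t, xx (ZMod 3) 4 t ∈ φ.range := fun t =>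
    ⟨⟨!![1, 0; t, 1], by simp [Matrix.det_fin_two]⟩, f2 _ t rfl⟩
  have hconj : ∀ g, ∃ g', hh (ZMod 3) 1 (-1) * φ g * (hh (ZMod 3) 1 (-1))⁻¹ = φ g' := by
    intro g
    have h1 := f3 (φ.range.comap (MulAut.conj (hh (ZMod 3) 1 (-1))).toMonoidHom)
      (fun t => by
        rw [Subgroup.mem_comap]
        change hh (ZMod 3) 1 (-1) * xx (ZMod 3) 7 t * (hh (ZMod 3) 1 (-1))⁻¹ ∈ _
        rw [ht17]
        exact hr7 _)
      (fun t => by
        rw [Subgroup.mem_comap]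
        change hh (ZMod 3) 1 (-1) * xx (ZMod 3) 4 t * (hh (ZMod 3) 1 (-1))⁻¹ ∈ _
        rw [ht14]
        exact hr4 _) g
    obtain ⟨g', hg'⟩ := h1
    exact ⟨g', hg'.symm⟩
  let L2 : Subgroup ↥(chevG2.group (ZMod 3)) :=
    { carrier := {x | (∃ g, x = φ g) ∨ ∃ g, x = hh (ZMod 3) 1 (-1) * φ g}
      one_mem' := Or.inl ⟨1, (map_one φ).symm⟩
      mul_mem' := by
        rintro a b (⟨x, rfl⟩ | ⟨x, rfl⟩) (⟨y, rfl⟩ | ⟨y, rfl⟩)
        · exact Or.inl ⟨x * y, (map_mul φ x y).symm⟩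
        · right
          obtain ⟨x', hx'⟩ := hconj x
          refine ⟨x' * y, ?_⟩
          rw [map_mul, ← hx', htinv]
          calc φ x * (hh (ZMod 3) 1 (-1) * φ y) =
              (hh (ZMod 3) 1 (-1) * hh (ZMod 3) 1 (-1)) * φ x * (hh (ZMod 3) 1 (-1) * φ y) := by rw [ht2, one_mul]
            _ = _ := by group
        · right
          exact ⟨x * y, by rw [map_mul, mul_assoc]⟩
        · left
          obtain ⟨x', hx'⟩ := hconj x
          refine ⟨x' * y, ?_⟩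
          rw [map_mul, ← hx', htinv]
          group
      inv_mem' := by
        rintro a (⟨x, rfl⟩ | ⟨x, rfl⟩)
        · exact Or.inl ⟨x⁻¹, (map_inv φ x).symm⟩
        · right
          obtain ⟨x', hx'⟩ := hconj x⁻¹
          refine ⟨x', ?_⟩
          rw [← hx', htinv, map_inv, mul_inv_rev, htinv, ← mul_assoc, ← mul_assoc, ht2, one_mul] }
  have hLle : LJ CoxeterMatrix.G₂.toCoxeterSystem hpG2.isCartan (TT chevG2 (ZMod 3)) (XX chevG2 2 (ZMod 3)) {0} ≤ L2 := by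
    refine sup_le ?_ (RGD.Sup_le fun x hx => ?_)
    · intro t ht
      rcases mem_T_iff ht with rfl | rfl | rfl | rfl
      · exact one_mem _
      · exact Or.inl ⟨mo, hmo.symm⟩
      · exact Or.inr ⟨1, by rw [map_one, mul_one]⟩
      · exact Or.inr ⟨mo, by rw [hmo]⟩
    · rcases hx.1.pos_or_neg with h0 | h0
      · have h2 : x = sr 0 := by
          have : x ∈ PosJ CoxeterMatrix.G₂.toCoxeterSystem hpG2.isCartan {0} := ⟨hx.1, h0, hx.2⟩
          rw [PosJ_single] at this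
          exact this
        intro u hu
        rw [h2] at hu
        obtain ⟨t, rfl⟩ := (mem_XX g5 hx7).1 hu
        exact Or.inl ⟨up t, (hup t).symm⟩
      · have h2 : x = -sr 0 := by
          have : -x ∈ PosJ CoxeterMatrix.G₂.toCoxeterSystem hpG2.isCartan {0} := ⟨hx.1.neg, neg_nonneg.2 h0, fun k hk => by
            rw [Pi.neg_apply, hx.2 k hk, neg_zero]⟩
          rw [PosJ_single] at this
          rw [← Set.mem_singleton_iff.1 this, _root_.neg_neg]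
        intro u hu
        rw [h2] at hu
        obtain ⟨t, rfl⟩ := (mem_XX t9 hx4).1 hu
        obtain ⟨g, hg⟩ := hr4 t
        exact Or.inl ⟨g, hg.symm⟩
  -- the reflection
  let n0 : ↥(chevG2.group (ZMod 3)) := ⟨nn hpG2 (ZMod 3) 0, nn_mem_group hpG2 0⟩
  let n1 : ↥(chevG2.group (ZMod 3)) := ⟨nn hpG2 (ZMod 3) 1, nn_mem_group hpG2 1⟩
  have hm : Rp CoxeterMatrix.G₂.toCoxeterSystem R.nsys (CoxeterMatrix.G₂.toCoxeterSystem.simple 1 *
      CoxeterMatrix.G₂.toCoxeterSystem.simple 0) (n1 * n0) :=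
    (rp_simple _ R.nsys 1).mul (rp_simple _ R.nsys 0)
  have hgg : Rp CoxeterMatrix.G₂.toCoxeterSystem R.nsys (vv CoxeterMatrix.G₂.toCoxeterSystem)
      ((n1 * n0) * n1 * (n1 * n0)⁻¹) := (hm.mul (rp_simple _ R.nsys 1)).mul hm.inv
  have hcomm : ∀ g, ((n1 * n0) * n1 * (n1 * n0)⁻¹)⁻¹ * φ g * ((n1 * n0) * n1 * (n1 * n0)⁻¹) = φ g := by
    have hgen : ∀ r s, r < chevG2.nroots → s < chevG2.nroots → s ∈ [9, 2] →
        rep CoxeterMatrix.G₂.toCoxeterSystem hpG2.isCartan (CoxeterMatrix.G₂.toCoxeterSystem.simple 1 *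
          CoxeterMatrix.G₂.toCoxeterSystem.simple 0)⁻¹ (vec chevG2 2 r) = vec chevG2 2 s → ∀ t,
        xx (ZMod 3) r t ∈ Subgroup.centralizer {(n1 * n0) * n1 * (n1 * n0)⁻¹} := by
      intro r s hr hs hs' he t
      obtain ⟨t', ht'⟩ := conj_gen hm.inv hr hs he t
      rw [inv_inv] at ht'
      rw [Subgroup.mem_centralizer_singleton_iff]
      have h1 := nn_comm (ZMod 3) hs' t'
      rw [← ht'] at h1
      change n1 * ((n1 * n0)⁻¹ * xx (ZMod 3) r t * (n1 * n0)) = (n1 * n0)⁻¹ * xx (ZMod 3) r t * (n1 * n0) * n1 at h1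
      calc xx (ZMod 3) r t * (n1 * n0 * n1 * (n1 * n0)⁻¹) =
            (n1 * n0) * ((n1 * n0)⁻¹ * xx (ZMod 3) r t * (n1 * n0) * n1) * (n1 * n0)⁻¹ := by group
        _ = (n1 * n0) * (n1 * ((n1 * n0)⁻¹ * xx (ZMod 3) r t * (n1 * n0))) * (n1 * n0)⁻¹ := by rw [h1]
        _ = _ := by group
    have hv : rep CoxeterMatrix.G₂.toCoxeterSystem hpG2.isCartan (CoxeterMatrix.G₂.toCoxeterSystem.simple 1 *
          CoxeterMatrix.G₂.toCoxeterSystem.simple 0)⁻¹ (sr 0) = ![2, 1] := by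
      rw [rep_inv_zero hA, k2, _root_.neg_neg]
    intro g
    have h1 := f3 (Subgroup.centralizer {(n1 * n0) * n1 * (n1 * n0)⁻¹})
      (hgen 7 9 g5 g3 (by simp) (by rw [hx7, hx9, hv]))
      (hgen 4 2 t9 g4 (by simp) (by rw [hx4, hx2, map_neg, hv])) g
    rw [Subgroup.mem_centralizer_singleton_iff] at h1
    rw [mul_assoc, h1, inv_mul_cancel_left]
  have hgt : ((n1 * n0) * n1 * (n1 * n0)⁻¹)⁻¹ * hh (ZMod 3) 1 (-1) * ((n1 * n0) * n1 * (n1 * n0)⁻¹) =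
      hh (ZMod 3) 1 (-1) * φ mo := by
    have hmem : ((n1 * n0) * n1 * (n1 * n0)⁻¹)⁻¹ * hh (ZMod 3) 1 (-1) * ((n1 * n0) * n1 * (n1 * n0)⁻¹) ∈
        TT chevG2 (ZMod 3) := by
      have h1 := (mem_normalizer_iff_cj.1 hgg.inv.mem_normalizer)
      have h2 : ((n1 * n0) * n1 * (n1 * n0)⁻¹)⁻¹ * hh (ZMod 3) 1 (-1) * ((n1 * n0) * n1 * (n1 * n0)⁻¹)⁻¹⁻¹ ∈
        cj ((n1 * n0) * n1 * (n1 * n0)⁻¹)⁻¹ (TT chevG2 (ZMod 3)) := conj_mem_cj.2 (hh_mem 1 hne)
      rwa [h1, inv_inv] at h2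
    generalize hgdef : (n1 * n0) * n1 * (n1 * n0)⁻¹ = gg at *
    rcases mem_T_iff hmem with h1 | h1 | h1 | h1
    · exfalso
      have h2 : hh (ZMod 3) 1 (-1) = 1 := by
        have h3 : hh (ZMod 3) 1 (-1) = gg * (gg⁻¹ * hh (ZMod 3) 1 (-1) * gg) * gg⁻¹ := by group
        rw [h3, h1, mul_one, mul_inv_cancel]
      have h3 := (hh_comm_iff (i := 1) (s := 7) g5 (t := 1) one_ne_zero).1 (by rw [h2, one_mul, mul_one])
      change (-1 : ZMod 3) ^ (chevG2.cartan 1 7) = 1 at h3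
      rw [t5] at h3
      exact zp.2.1 h3
    · exfalso
      have h2 : hh (ZMod 3) 1 (-1) = hh (ZMod 3) 0 (-1) := by
        have h3 : hh (ZMod 3) 1 (-1) = gg * (gg⁻¹ * hh (ZMod 3) 1 (-1) * gg) * gg⁻¹ := by group
        have h4 : gg⁻¹ * hh (ZMod 3) 0 (-1) * gg = hh (ZMod 3) 0 (-1) := by
          rw [← hmo]
          exact hcomm mo
        rw [h3, h1]
        nth_rw 1 [← h4]
        group
      have h3 := (hh_comm_iff (i := 1) (s := 7) g5 (t := 1) one_ne_zero).1 (by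
        rw [h2]
        refine (hh_comm_iff (i := 0) (s := 7) g5 (t := 1) one_ne_zero).2 ?_
        change (-1 : ZMod 3) ^ (chevG2.cartan 0 7) = 1
        rw [d3]
        exact zp.2.2.2)
      change (-1 : ZMod 3) ^ (chevG2.cartan 1 7) = 1 at h3
      rw [t5] at h3
      exact zp.2.1 h3
    · exfalso
      obtain ⟨t', ht'⟩ := conj_gen hgg t10 t8 (t := 1) (by
        rw [hx6, hx1, rep_vv hA, sr_one_eq, k1]
        simp)
      have ht'0 : t' ≠ 0 := by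
        rintro rfl
        have h2 : xx (ZMod 3) 1 0 = 1 := Subtype.ext (xG_zero hpG2.inList 1)
        rw [h2, mul_inv_eq_one, mul_eq_left] at ht'
        exact one_ne_zero (xG_injective hpG2.inList t10 ((congrArg Subtype.val ht').trans
          (xG_zero hpG2.inList 6).symm))
      have h2 := (hh_comm_iff (i := 1) (s := 6) t10 (t := 1) one_ne_zero).2 (by
        change (-1 : ZMod 3) ^ (chevG2.cartan 1 6) = 1
        rw [d4]
        exact zp.2.2.2)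
      have h3 := (hh_comm_iff (i := 1) (s := 1) t8 (t := t') ht'0).1 (by
        rw [← ht']
        have h4 : hh (ZMod 3) 1 (-1) * gg = gg * hh (ZMod 3) 1 (-1) := by
          calc hh (ZMod 3) 1 (-1) * gg = gg * (gg⁻¹ * hh (ZMod 3) 1 (-1) * gg) := by group
            _ = _ := by rw [h1]
        have h5 : gg⁻¹ * hh (ZMod 3) 1 (-1) = hh (ZMod 3) 1 (-1) * gg⁻¹ := by
          rw [inv_mul_eq_iff_eq_mul, ← mul_assoc, ← h4, mul_inv_cancel_right]
        calc hh (ZMod 3) 1 (-1) * (gg * xx (ZMod 3) 6 1 * gg⁻¹) =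
              (hh (ZMod 3) 1 (-1) * gg) * xx (ZMod 3) 6 1 * gg⁻¹ := by group
          _ = gg * (hh (ZMod 3) 1 (-1) * xx (ZMod 3) 6 1) * gg⁻¹ := by rw [h4]; group
          _ = gg * xx (ZMod 3) 6 1 * (hh (ZMod 3) 1 (-1) * gg⁻¹) := by rw [h2]; group
          _ = _ := by rw [← h5]; group)
      change (-1 : ZMod 3) ^ (chevG2.cartan 1 1) = 1 at h3
      rw [t3] at h3
      exact zp.2.2.1 h3
    · rw [h1, hmo]
  have hLX7 : ∀ t, xx (ZMod 3) 7 t ∈ LJ CoxeterMatrix.G₂.toCoxeterSystem hpG2.isCartan (TT chevG2 (ZMod 3))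
      (XX chevG2 2 (ZMod 3)) {0} := fun t => X_le_LJ_single 0 (hX7 t)
  have hLX4 : ∀ t, xx (ZMod 3) 4 t ∈ LJ CoxeterMatrix.G₂.toCoxeterSystem hpG2.isCartan (TT chevG2 (ZMod 3))
      (XX chevG2 2 (ZMod 3)) {0} := by
    intro t
    refine X_le_LJ ?_ (hX4 t)
    exact RootsJ.neg (PosJ_subset _ (sr_mem_PosJ (Set.mem_singleton 0)))
  have hlo : ∀ t : ZMod 3, ∃ g : SL3, φ g = xx (ZMod 3) 4 t ∧ φ (dl g) = xx (ZMod 3) 4 (-t) := by
    intro t
    let g : SL3 := mk 1 0 t 1 (by rw [zero_mul, sub_zero, mul_one])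
    exact ⟨g, f2 g t rfl, f2 (dl g) (-t) (by
      change !![(1 : ZMod 3), -0; -t, 1] = !![1, 0; -t, 1]
      rw [_root_.neg_zero])⟩
  let HH : Subgroup ↥(chevG2.group (ZMod 3)) :=
    { carrier := {y | ∃ g, φ g = y ∧ hh (ZMod 3) 1 (-1) * y * (hh (ZMod 3) 1 (-1))⁻¹ = φ (dl g)}
      one_mem' := ⟨1, map_one φ, by rw [dl_one, map_one]; group⟩
      mul_mem' := by
        rintro a b ⟨g, h1, h2⟩ ⟨g', h3, h4⟩
        refine ⟨g * g', by rw [map_mul, h1, h3], ?_⟩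
        rw [dl_mul, map_mul, ← h2, ← h4]
        group
      inv_mem' := by
        rintro a ⟨g, h1, h2⟩
        refine ⟨g⁻¹, by rw [map_inv, h1], ?_⟩
        have h3 : dl g⁻¹ = (dl g)⁻¹ := by
          rw [eq_inv_iff_mul_eq_one, ← dl_mul, inv_mul_cancel, dl_one]
        rw [h3, map_inv, ← h2]
        group }
  have hc0 := f3 HH
    (fun t => ⟨up t, hup t, by
      rw [ht17, ← hup]
      congr 1
      apply Subtype.ext
      change !![1, -t; 0, 1] = !![(1 : ZMod 3), -t; -0, 1]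
      rw [_root_.neg_zero]⟩)
    (fun t => by
      obtain ⟨g, h1, h2⟩ := hlo t
      exact ⟨g, h1, by rw [ht14, h2]⟩)
  exact vpow_abs R (by norm_num) (GG_eq_top hpG2 (ZMod 3) _) hA
    (by
      rw [card_XX hpG2 (ZMod 3) CoxeterMatrix.G₂.toCoxeterSystem (isRoot_sr _ hpG2.isCartan 0), Nat.card_eq_fintype_card,
        ZMod.card])
    card_T φ (fun t => by rw [hup]; exact hX7 t)
    (f3 _ hLX7 hLX4)
    (hh_mem 1 hne) ht2 hc0 (fun l hl => hLle hl) hgg hcomm hgt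

/-- **`G₂(3)`**. -/
theorem vpow_G2 {K : Type u} [Field K] [Fintype K] (hK : Fintype.card K = 3) :
    H620.PNorm.VPow 2 ↥(chevG2.group K) :=
  vpow_zmod.mulEquiv (Cfsg.Agent.ChevStructure.FieldMap.groupEquivOfRingEquiv chevG2
    (ZMod.ringEquivOfPrime K Nat.prime_three (by rw [hK])))

end concrete

end Cfsg.Agent.H139.Van.G2Three
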