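import Cfsg.Agent.H139.Van.TwD4Small
import Cfsg.Agent.H139.Van.DzF4

/-!
# The rows of S4555 and S4559 for `F₄(q)`, `G₂(q)`, `³D₄(q)`, `p ∤ q (q² - 1)` (helper139)

* `vOrdP_F4`, `vOrdP_G2`, `vOrdP_D4` (for all `q`; `³D₄(2)`, `p = 7` and `³D₄(3)`, `p = 13` by `TwD4Small`);
* `vPow_F4`, `vPow_G2`, `vPow_D4`.
-/

set_option autoImplicit false

open Cfsg Cfsg.Lie

namespace Cfsg.Agent.H139.Van.Ord3

open H620.PNorm

/-- a character of `p`-defect zero gives `VOrdP` -/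
theorem vOrdP_of_dz {S : Type*} [Group S] [Finite S] {p : ℕ} [hp : Fact p.Prime] (h : H665.NoPQ.HasDZ p S)
    (hd : p ∣ Nat.card S) : VOrdP p S := by
  obtain ⟨x, hx⟩ := exists_prime_orderOf_dvd_card' (G := S) p hd
  exact ⟨x, hx, H713.HasDZ.vz h (by rw [hx])⟩

theorem vOrdP_F4 {F : Type} [Field F] [Fintype F] {p : ℕ} [Fact p.Prime] (hpq : ¬ p ∣ Fintype.card F)
    (h1 : ¬ p ∣ Fintype.card F - 1) (h2 : ¬ p ∣ Fintype.card F + 1) (hd : p ∣ Nat.card ↥(chevF4.group F)) :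
    VOrdP p ↥(chevF4.group F) := by
  have : Finite ↥(chevF4.group F) := inferInstance
  exact vOrdP_of_dz (DzF4.dz_F4 hpq h1 h2 hd) hd

theorem vOrdP_G2 {F : Type} [Field F] [Fintype F] (h3 : 3 ≤ Fintype.card F) {p : ℕ} [Fact p.Prime]
    (hpq : ¬ p ∣ Fintype.card F) (h1 : ¬ p ∣ Fintype.card F - 1) (h2 : ¬ p ∣ Fintype.card F + 1)
    (hd : p ∣ Nat.card ↥(chevG2.group F)) : VOrdP p ↥(chevG2.group F) := by
  have : Finite ↥(chevG2.group F) := inferInstance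
  exact vOrdP_of_dz (DzG2.dz_G2 h3 hpq h1 h2) hd

/-- **`³D₄(q)`, `p ∤ q (q² - 1)`.** -/
theorem vOrdP_D4 {K : Type} [Field K] [Fintype K] {q : ℕ} (hq : IsPrimePow q) (hK : Fintype.card K = q ^ 3) {p : ℕ}
    [hpf : Fact p.Prime] (hpq : ¬ p ∣ q) (h1 : ¬ p ∣ q - 1) (h2 : ¬ p ∣ q + 1)
    (hd : p ∣ Nat.card ↥(twistedD4 K q)) : VOrdP p ↥(twistedD4 K q) := by
  have hpp := hpf.out
  have : Finite ↥(twistedD4 K q) := inferInstance
  have hq2 := hq.two_le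
  by_cases h3 : p ∣ q ^ 2 + q + 1
  · have hp2 : p ≠ 2 := by
      rintro rfl
      omega
    have e3 : q ^ 3 - 1 = (q - 1) * (q ^ 2 + q + 1) := by
      obtain ⟨m, rfl⟩ := Nat.exists_eq_add_of_le hq2
      have e1 : 2 + m - 1 = m + 1 := by omega
      rw [e1, show (2 + m) ^ 3 = (m + 1) * ((2 + m) ^ 2 + (2 + m) + 1) + 1 by ring]
      rfl
    by_cases h4 : 4 ≤ q
    · exact vOrdP_of_dz (TwD4.dz_of_dvd hq h4 hK hpq hp2 h1 (by rw [e3]; exact h3.mul_left _)) hd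
    · have h5 : q = 2 ∨ q = 3 := by omega
      rcases h5 with rfl | rfl
      · have h6 : p = 7 := (Nat.prime_dvd_prime_iff_eq hpp (by norm_num)).1 (by simpa using h3)
        subst h6
        exact TwD4Small.vOrdP_two hK
      · have h6 : p = 13 := (Nat.prime_dvd_prime_iff_eq hpp (by norm_num)).1 (by simpa using h3)
        subst h6
        exact TwD4Small.vOrdP_three hK
  · exact vOrdP_of_dz (TwD4.dz_of_not_dvd hq hK hpq h1 h2 h3) hd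

theorem vPow_F4 {F : Type} [Field F] [Fintype F] {p : ℕ} [Fact p.Prime] (hpq : ¬ p ∣ Fintype.card F)
    (h1 : ¬ p ∣ Fintype.card F - 1) (h2 : ¬ p ∣ Fintype.card F + 1) (hd : p ∣ Nat.card ↥(chevF4.group F)) :
    VPow p ↥(chevF4.group F) := (vOrdP_F4 hpq h1 h2 hd).vPow

theorem vPow_G2 {F : Type} [Field F] [Fintype F] (h3 : 3 ≤ Fintype.card F) {p : ℕ} [Fact p.Prime]
    (hpq : ¬ p ∣ Fintype.card F) (h1 : ¬ p ∣ Fintype.card F - 1) (h2 : ¬ p ∣ Fintype.card F + 1)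
    (hd : p ∣ Nat.card ↥(chevG2.group F)) : VPow p ↥(chevG2.group F) := (vOrdP_G2 h3 hpq h1 h2 hd).vPow

theorem vPow_D4 {K : Type} [Field K] [Fintype K] {q : ℕ} (hq : IsPrimePow q) (hK : Fintype.card K = q ^ 3) {p : ℕ}
    [Fact p.Prime] (hpq : ¬ p ∣ q) (h1 : ¬ p ∣ q - 1) (h2 : ¬ p ∣ q + 1)
    (hd : p ∣ Nat.card ↥(twistedD4 K q)) : VPow p ↥(twistedD4 K q) := (vOrdP_D4 hq hK hpq h1 h2 hd).vPow

end Cfsg.Agent.H139.Van.Ord3
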